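import Cfsg.Agent.Lib.Small.SteinbergGL.Mobius
import Cfsg.Agent.Lib.Small.Flags.Bruhat

/-!
# The alternating sum over compositions as a signed count of chains
-/

set_option autoImplicit false
set_option linter.unusedSectionVars false

namespace Cfsg.Agent.Small.SteinbergGL

open Module
open scoped _root_.Classical

universe v

variable {F : Type v} [Field F] [Fintype F] {V : Type v} [AddCommGroup V] [Module F V] [Finite V]

/-- The Möbius function to the whole space. -/
noncomputable def nu (f : Module.End F V) (W : Submodule F V) : ℤ :=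
  if W = ⊤ then 1 else -∑ U ∈ ((inv f).filter fun U => W < U).attach, nu f U.1
termination_by finrank F V - finrank F W
decreasing_by
  haveI : FiniteDimensional F V := Module.Finite.of_finite
  have h : W < U.1 := (Finset.mem_filter.mp U.2).2
  have := Submodule.finrank_lt_finrank_of_lt h
  have := Submodule.finrank_le U.1
  omega

theorem nu_eq (f : Module.End F V) (W : Submodule F V) :
    nu f W = (if W = ⊤ then 1 else 0) - ∑ U ∈ (inv f).filter (fun U => W < U), nu f U := by
  rw [nu]
  split_ifs with h
  · subst h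
    rw [Finset.sum_eq_zero (fun U hU => absurd (Finset.mem_filter.mp hU).2 not_top_lt), sub_zero]
  · rw [Finset.sum_attach _ (fun U => nu f U), zero_sub]

theorem sum_ge (f : Module.End F V) {W : Submodule F V} (hW : W ∈ inv f) :
    ∑ U ∈ (inv f).filter (fun U => W ≤ U), nu f U = if W = ⊤ then 1 else 0 := by
  have e : (inv f).filter (fun U => W ≤ U) = insert W ((inv f).filter fun U => W < U) := by
    ext U
    simp only [Finset.mem_filter, Finset.mem_insert, le_iff_eq_or_lt]
    constructor
    · rintro ⟨h, h1 | h1⟩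
      exacts [Or.inl h1.symm, Or.inr ⟨h, h1⟩]
    · rintro (rfl | ⟨h, h1⟩)
      exacts [⟨hW, Or.inl rfl⟩, ⟨h, Or.inr h1⟩]
  rw [e, Finset.sum_insert (by simp), nu_eq f W]
  ring

theorem nu_bot (f : Module.End F V) : nu f ⊥ = mu f ⊤ := by
  have h1 : ∑ W ∈ inv f, ∑ U ∈ (inv f).filter (fun U => W ≤ U), mu f W * nu f U = mu f ⊤ := by
    rw [Finset.sum_eq_single (⊤ : Submodule F V)]
    · rw [← Finset.mul_sum, sum_ge f (top_mem f), if_pos rfl, mul_one]
    · intro W hW hne
      rw [← Finset.mul_sum, sum_ge f hW, if_neg hne, mul_zero]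
    · intro h; exact absurd (top_mem f) h
  have h2 : ∑ U ∈ inv f, ∑ W ∈ (inv f).filter (fun W => W ≤ U), mu f W * nu f U = nu f ⊥ := by
    rw [Finset.sum_eq_single (⊥ : Submodule F V)]
    · rw [← Finset.sum_mul, sum_le f (bot_mem f), if_pos rfl, one_mul]
    · intro U hU hne
      rw [← Finset.sum_mul, sum_le f hU, if_neg hne, zero_mul]
    · intro h; exact absurd (bot_mem f) h
  rw [← h1, ← h2]
  exact Finset.sum_comm' (fun U W => by simp only [Finset.mem_filter]; tauto)

/-- Chains with prescribed increments. -/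
def Chain (f : Module.End F V) {m : ℕ} (W : Submodule F V) (μ : Fin m → ℕ) (U : Fin m → Submodule F V) : Prop :=
  (∀ i : Fin m, (∀ v ∈ U i, f v ∈ U i) ∧ (Fin.cons W U : Fin (m + 1) → Submodule F V) i.castSucc ≤ U i ∧
    finrank F (U i) = finrank F ((Fin.cons W U : Fin (m + 1) → Submodule F V) i.castSucc) + μ i) ∧
  (Fin.cons W U : Fin (m + 1) → Submodule F V) (Fin.last m) = ⊤

/-- Their number. -/
noncomputable def cnt (f : Module.End F V) {m : ℕ} (W : Submodule F V) (μ : Fin m → ℕ) : ℕ :=
  (Finset.univ.filter fun U : Fin m → Submodule F V => Chain f W μ U).card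

theorem cnt_zero (f : Module.End F V) (W : Submodule F V) (μ : Fin 0 → ℕ) :
    cnt f W μ = if W = ⊤ then 1 else 0 := by
  have hc : ∀ U : Fin 0 → Submodule F V, Chain f W μ U ↔ W = ⊤ := fun U =>
    ⟨fun h => h.2, fun h => ⟨fun i => i.elim0, h⟩⟩
  split_ifs with h
  · rw [cnt, Finset.filter_true_of_mem fun U _ => (hc U).mpr h]
    simp
  · rw [cnt, Finset.card_eq_zero, Finset.filter_eq_empty_iff]
    exact fun U _ hU => h ((hc U).mp hU)

theorem chain_cons (f : Module.End F V) {m : ℕ} (W : Submodule F V) (a : ℕ) (μ : Fin m → ℕ)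
    (X : Submodule F V) (U : Fin m → Submodule F V) :
    Chain f W (Fin.cons a μ) (Fin.cons X U) ↔
      ((∀ v ∈ X, f v ∈ X) ∧ W ≤ X ∧ finrank F X = finrank F W + a) ∧ Chain f X μ U := by
  simp only [Chain, Fin.forall_fin_succ, Fin.cons_succ, Fin.cons_zero, Fin.castSucc_zero, Fin.castSucc_succ,
    ← Fin.succ_last]
  tauto

theorem cnt_cons (f : Module.End F V) {m : ℕ} (W : Submodule F V) (a : ℕ) (μ : Fin m → ℕ) :
    cnt f W (Fin.cons a μ) =
      ∑ X ∈ (inv f).filter (fun X => W ≤ X ∧ finrank F X = finrank F W + a), cnt f X μ := by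
  rw [cnt]
  simp only [cnt]
  rw [← Finset.card_sigma]
  refine Finset.card_nbij' (fun U => ⟨U 0, Fin.tail U⟩) (fun p => Fin.cons p.1 p.2) ?_ ?_ ?_ ?_
  · intro U hU
    simp only [Finset.coe_filter, Finset.mem_univ, true_and, Set.mem_setOf_eq] at hU
    rw [← Fin.cons_self_tail U, chain_cons] at hU
    simpa [Finset.mem_sigma, mem_inv, and_assoc] using hU
  · rintro ⟨X, U⟩ hp
    simp only [Finset.mem_coe, Finset.mem_sigma, Finset.mem_filter, Finset.mem_univ, true_and, mem_inv] at hp
    simp only [Finset.coe_filter, Finset.mem_univ, true_and, Set.mem_setOf_eq]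
    exact (chain_cons f W a μ X U).mpr ⟨⟨hp.1.1, hp.1.2.1, hp.1.2.2⟩, hp.2⟩
  · intro U _; exact Fin.cons_self_tail U
  · rintro ⟨X, U⟩ _; simp

theorem cnt_cons_zero (f : Module.End F V) {m : ℕ} {W : Submodule F V} (hW : W ∈ inv f) (μ : Fin m → ℕ) :
    cnt f W (Fin.cons 0 μ) = cnt f W μ := by
  haveI : FiniteDimensional F V := Module.Finite.of_finite
  rw [cnt_cons, show (inv f).filter (fun X => W ≤ X ∧ finrank F X = finrank F W + 0) = {W} from ?_,
    Finset.sum_singleton]
  ext X
  simp only [Finset.mem_filter, Finset.mem_singleton, add_zero]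
  exact ⟨fun h => (Submodule.eq_of_le_of_finrank_eq h.2.1 h.2.2.symm).symm, fun h => by subst h; exact ⟨hW, le_rfl, rfl⟩⟩

/-- The increments attached to a permutation. -/
def ty {m : ℕ} (a : ℕ) (i j : Fin m) : ℕ := if j.val = 0 then a + i.val else i.val + 1 - j.val

/-- The alternating sum. -/
noncomputable def alt (f : Module.End F V) (a m : ℕ) (W : Submodule F V) : ℤ :=
  ∑ κ : Equiv.Perm (Fin m), if ∀ i, (κ i).val ≤ i.val + 1 then
    (Equiv.Perm.sign κ : ℤ) * (cnt f W fun i => ty a i (κ i)) else 0

theorem alt_zero (f : Module.End F V) (a : ℕ) (W : Submodule F V) : alt f a 0 W = if W = ⊤ then 1 else 0 := by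
  simp [alt, cnt_zero]

theorem alt_succ (f : Module.End F V) (a m : ℕ) {W : Submodule F V} (hW : W ∈ inv f) :
    alt f a (m + 1) W = (∑ X ∈ (inv f).filter (fun X => W ≤ X ∧ finrank F X = finrank F W + a), alt f 1 m X) -
      if m = 0 then 0 else alt f (a + 1) m W := by
  rw [alt, Finset.univ_perm_fin_succ, Finset.sum_map, ← Finset.univ_product_univ, Finset.sum_product,
    Fin.sum_univ_succ, sub_eq_add_neg]
  congr 1
  · simp only [alt]
    rw [Finset.sum_comm]
    refine Finset.sum_congr rfl fun e _ => ?_
    have hs : ∀ i : Fin m, (Equiv.Perm.decomposeFin.symm ((0 : Fin (m + 1)), e)) i.succ = (e i).succ := fun i => by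
      rw [Equiv.Perm.decomposeFin_symm_apply_succ, Equiv.swap_self]; rfl
    have hcond : (∀ i : Fin (m + 1), ((Equiv.Perm.decomposeFin.symm ((0 : Fin (m + 1)), e)) i).val ≤ i.val + 1) ↔
        ∀ i, (e i).val ≤ i.val + 1 := by
      rw [Fin.forall_fin_succ]
      simp [hs]
    simp only [Equiv.coe_toEmbedding, hcond]
    split_ifs with h
    · have hty : (fun i => ty a i ((Equiv.Perm.decomposeFin.symm ((0 : Fin (m + 1)), e)) i)) =
          Fin.cons a fun i => ty 1 i (e i) := by
        funext i
        refine Fin.cases ?_ (fun j => ?_) i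
        · simp [ty]
        · rw [Fin.cons_succ, hs]
          simp only [ty, Fin.val_succ, Nat.succ_ne_zero, if_false]
          split_ifs with h0
          · rw [h0]; omega
          · omega
      rw [hty, Equiv.Perm.decomposeFin.symm_sign, if_pos rfl, one_mul, cnt_cons]
      push_cast
      rw [Finset.mul_sum]
    · simp
  · rcases m with _ | m
    · simp
    rw [if_neg (Nat.succ_ne_zero m), Fin.sum_univ_succ, Finset.sum_eq_zero (s := (Finset.univ : Finset (Fin m))), add_zero]
    · rw [alt, ← Finset.sum_neg_distrib]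
      refine Finset.sum_congr rfl fun e _ => ?_
      have h1 : ((0 : Fin (m + 1)).succ : Fin (m + 1 + 1)) ≠ 0 := Fin.succ_ne_zero _
      have hs : ∀ i : Fin (m + 1), ((Equiv.Perm.decomposeFin.symm ((0 : Fin (m + 1)).succ, e)) i.succ).val =
          if (e i).val = 0 then 0 else (e i).val + 1 := fun i => by
        rw [Equiv.Perm.decomposeFin_symm_apply_succ]
        by_cases h0 : (e i).val = 0
        · rw [if_pos h0, show e i = 0 from Fin.ext h0, Equiv.swap_apply_right]; rfl
        · rw [if_neg h0, Equiv.swap_apply_of_ne_of_ne (Fin.succ_ne_zero _)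
            (fun h => h0 (congrArg Fin.val (Fin.succ_injective _ h))), Fin.val_succ]
      have hcond : (∀ i : Fin (m + 1 + 1),
          ((Equiv.Perm.decomposeFin.symm ((0 : Fin (m + 1)).succ, e)) i).val ≤ i.val + 1) ↔
          ∀ i, (e i).val ≤ i.val + 1 := by
        rw [Fin.forall_fin_succ]
        constructor
        · rintro ⟨-, h⟩ i
          have := h i
          rw [hs, Fin.val_succ] at this
          split_ifs at this with h0 <;> omega
        · refine fun h => ⟨by simp, fun i => ?_⟩
          rw [hs, Fin.val_succ]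
          have := h i
          split_ifs <;> omega
      simp only [Equiv.coe_toEmbedding, hcond]
      split_ifs with h
      · have hty : (fun i => ty a i ((Equiv.Perm.decomposeFin.symm ((0 : Fin (m + 1)).succ, e)) i)) =
            Fin.cons 0 fun i => ty (a + 1) i (e i) := by
          funext i
          refine Fin.cases ?_ (fun j => ?_) i
          · simp [ty]
          · rw [Fin.cons_succ]
            simp only [ty, hs, Fin.val_succ]
            split_ifs <;> first | omega | contradiction
        rw [hty, Equiv.Perm.decomposeFin.symm_sign, if_neg h1, cnt_cons_zero f hW]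
        push_cast
        ring
      · simp
    · intro p _
      refine Finset.sum_eq_zero fun e _ => ?_
      rw [if_neg]
      intro h
      have := h 0
      simp at this

theorem alt_eq (f : Module.End F V) : ∀ (m a : ℕ) (W : Submodule F V), W ∈ inv f → 1 ≤ a →
    finrank F W + a + m = finrank F V + 1 →
    alt f a m W = (-1) ^ m * ((if W = ⊤ then 1 else 0) -
      ∑ U ∈ (inv f).filter (fun U => W ≤ U ∧ finrank F W + a ≤ finrank F U), nu f U) := by
  haveI : FiniteDimensional F V := Module.Finite.of_finite
  intro m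
  induction m with
  | zero =>
    intro a W hW ha hd
    rw [alt_zero, pow_zero, one_mul, Finset.sum_eq_zero, sub_zero]
    intro U hU
    have := (Finset.mem_filter.mp hU).2.2
    have := Submodule.finrank_le U
    omega
  | succ m ih =>
    intro a W hW ha hd
    have hWtop : W ≠ ⊤ := fun e => by rw [e, finrank_top] at hd; omega
    rw [alt_succ f a m hW, if_neg hWtop]
    have hnu : ∀ X ∈ (inv f).filter (fun X => W ≤ X ∧ finrank F X = finrank F W + a),
        alt f 1 m X = (-1) ^ m * nu f X := by
      intro X hX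
      simp only [Finset.mem_filter] at hX
      rw [ih 1 X hX.1 le_rfl (by omega), nu_eq f X]
      congr 2
      refine Finset.sum_congr (Finset.filter_congr fun U _ => ?_) fun _ _ => rfl
      refine ⟨fun h => lt_of_le_of_ne h.1 fun e => by rw [e] at h; omega, fun h => ⟨h.le, ?_⟩⟩
      exact Submodule.finrank_lt_finrank_of_lt h
    have hsplit : ∑ U ∈ (inv f).filter (fun U => W ≤ U ∧ finrank F W + a ≤ finrank F U), nu f U =
        (∑ U ∈ (inv f).filter (fun X => W ≤ X ∧ finrank F X = finrank F W + a), nu f U) +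
          ∑ U ∈ (inv f).filter (fun U => W ≤ U ∧ finrank F W + (a + 1) ≤ finrank F U), nu f U := by
      rw [← Finset.sum_union]
      · refine Finset.sum_congr ?_ fun _ _ => rfl
        ext U
        simp only [Finset.mem_filter, Finset.mem_union]
        constructor
        · rintro ⟨h1, h2, h3⟩
          by_cases h : finrank F U = finrank F W + a
          · exact Or.inl ⟨h1, h2, h⟩
          · exact Or.inr ⟨h1, h2, by omega⟩
        · rintro (⟨h1, h2, h3⟩ | ⟨h1, h2, h3⟩) <;> exact ⟨h1, h2, by omega⟩
      · rw [Finset.disjoint_left]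
        intro U h1 h2
        simp only [Finset.mem_filter] at h1 h2
        omega
    rw [Finset.sum_congr rfl hnu, ← Finset.mul_sum, hsplit]
    rcases Nat.eq_zero_or_pos m with rfl | hm
    · rw [if_pos rfl, Finset.sum_eq_zero (s := (inv f).filter
        (fun U => W ≤ U ∧ finrank F W + (a + 1) ≤ finrank F U))]
      · ring
      · intro U hU
        have := (Finset.mem_filter.mp hU).2.2
        have := Submodule.finrank_le U
        omega
    · rw [if_neg (by omega), ih (a + 1) W hW (by omega) (by omega), if_neg hWtop]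
      ring

theorem alt_bot (f : Module.End F V) : alt f 1 (finrank F V) ⊥ = (-1) ^ finrank F V * mu f ⊤ := by
  rw [alt_eq f _ 1 ⊥ (bot_mem f) le_rfl (by rw [finrank_bot]; omega), ← nu_bot, nu_eq f ⊥]
  congr 2
  refine Finset.sum_congr (Finset.filter_congr fun U _ => ?_) fun _ _ => rfl
  rw [finrank_bot, bot_lt_iff_ne_bot]
  haveI : FiniteDimensional F V := Module.Finite.of_finite
  refine ⟨fun h e => ?_, fun h => ⟨bot_le, ?_⟩⟩
  · rw [e, finrank_bot] at h; omega
  · rw [zero_add, Nat.one_le_iff_ne_zero, Ne, Submodule.finrank_eq_zero]; exact h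

end Cfsg.Agent.Small.SteinbergGL
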