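import Cfsg.Agent.Lib.Small.Semisimple

/-!
# The Möbius function of the invariant subspaces of a semisimple endomorphism
-/

set_option autoImplicit false
set_option linter.unusedSectionVars false

namespace Cfsg.Agent.Small.SteinbergGL

open Module Polynomial
open scoped _root_.Classical

universe v

variable {F : Type v} [Field F] [Fintype F]

section Basic

variable {V : Type v} [AddCommGroup V] [Module F V] [Finite V]

noncomputable instance fintypeSub : Fintype (Submodule F V) := Fintype.ofFinite _

/-- The invariant subspaces. -/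
noncomputable def inv (f : Module.End F V) : Finset (Submodule F V) :=
  Finset.univ.filter fun W => ∀ v ∈ W, f v ∈ W

theorem mem_inv {f : Module.End F V} {W : Submodule F V} : W ∈ inv f ↔ ∀ v ∈ W, f v ∈ W := by simp [inv]

theorem bot_mem (f : Module.End F V) : (⊥ : Submodule F V) ∈ inv f := mem_inv.mpr fun v hv => by
  rw [Submodule.mem_bot] at hv; simp [hv]

theorem top_mem (f : Module.End F V) : (⊤ : Submodule F V) ∈ inv f := mem_inv.mpr fun _ _ => trivial

theorem sup_mem {f : Module.End F V} {A B : Submodule F V} (hA : A ∈ inv f) (hB : B ∈ inv f) : A ⊔ B ∈ inv f :=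
  mem_inv.mpr fun v hv => by
    obtain ⟨a, ha, b, hb, rfl⟩ := Submodule.mem_sup.mp hv
    rw [map_add]
    exact Submodule.add_mem_sup (mem_inv.mp hA a ha) (mem_inv.mp hB b hb)

/-- The Möbius function from the zero subspace. -/
noncomputable def mu (f : Module.End F V) (T : Submodule F V) : ℤ :=
  if T = ⊥ then 1 else -∑ U ∈ ((inv f).filter fun U => U < T).attach, mu f U.1
termination_by Nat.card T
decreasing_by
  have h : U.1 < T := (Finset.mem_filter.mp U.2).2
  haveI : Finite T := Finite.of_injective _ Subtype.val_injective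
  exact Set.ncard_lt_ncard (SetLike.coe_ssubset_coe.mpr h)

theorem mu_bot (f : Module.End F V) : mu f ⊥ = 1 := by rw [mu, if_pos rfl]

theorem mu_eq (f : Module.End F V) {T : Submodule F V} (hT : T ≠ ⊥) :
    mu f T = -∑ U ∈ (inv f).filter (fun U => U < T), mu f U := by
  rw [mu, if_neg hT, Finset.sum_attach _ (fun U => mu f U)]

theorem sum_le (f : Module.End F V) {T : Submodule F V} (hT : T ∈ inv f) :
    ∑ U ∈ (inv f).filter (fun U => U ≤ T), mu f U = if T = ⊥ then 1 else 0 := by
  have e : (inv f).filter (fun U => U ≤ T) = insert T ((inv f).filter fun U => U < T) := by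
    ext U
    simp only [Finset.mem_filter, Finset.mem_insert, le_iff_eq_or_lt]
    constructor
    · rintro ⟨h, h1 | h1⟩
      exacts [Or.inl h1, Or.inr ⟨h, h1⟩]
    · rintro (rfl | ⟨h, h1⟩)
      exacts [⟨hT, Or.inl rfl⟩, ⟨h, Or.inr h1⟩]
  rw [e, Finset.sum_insert (by simp)]
  split_ifs with h
  · subst h
    rw [mu_bot, Finset.sum_eq_zero, add_zero]
    intro U hU
    exact absurd (Finset.mem_filter.mp hU).2 not_lt_bot
  · rw [mu_eq f h, neg_add_cancel]

theorem weisner (f : Module.End F V) {A : Submodule F V} (hA : A ∈ inv f) (hA0 : A ≠ ⊥) :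
    ∀ T ∈ inv f, A ≤ T → ∑ W ∈ (inv f).filter (fun W => W ⊔ A = T), mu f W = 0 := by
  intro T
  induction T using WellFoundedLT.induction with
  | ind T ih =>
    intro hT hAT
    have hfib := Finset.sum_fiberwise_of_maps_to (s := (inv f).filter fun W => W ≤ T)
      (t := (inv f).filter fun Y => A ≤ Y ∧ Y ≤ T) (g := fun W => W ⊔ A) (fun W hW => by
        simp only [Finset.mem_filter, Finset.mem_coe] at hW ⊢
        exact ⟨sup_mem hW.1 hA, le_sup_right, sup_le hW.2 hAT⟩) (mu f)
    rw [sum_le f hT, if_neg (show T ≠ ⊥ from fun h => hA0 (le_bot_iff.mp (hAT.trans h.le))), Finset.sum_eq_single T] at hfib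
    · rw [← hfib]
      congr 1
      ext W
      simp only [Finset.mem_filter]
      exact ⟨fun h => ⟨⟨h.1, h.2 ▸ le_sup_left⟩, h.2⟩, fun h => ⟨h.1.1, h.2⟩⟩
    · intro Y hY hne
      simp only [Finset.mem_filter] at hY
      rw [← ih Y (lt_of_le_of_ne hY.2.2 hne) hY.1 hY.2.1]
      congr 1
      ext W
      simp only [Finset.mem_filter]
      exact ⟨fun h => ⟨h.1.1, h.2⟩, fun h => ⟨⟨h.1, le_trans (h.2 ▸ le_sup_left) hY.2.2⟩, h.2⟩⟩
    · intro h
      exact absurd (Finset.mem_filter.mpr ⟨hT, hAT, le_rfl⟩) h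

end Basic

variable {V W : Type v} [AddCommGroup V] [Module F V] [Finite V] [AddCommGroup W] [Module F W] [Finite W]

theorem mu_map (f : Module.End F V) (g : Module.End F W) (j : W →ₗ[F] V) (hj : Function.Injective j)
    (hc : ∀ w, f (j w) = j (g w)) : ∀ T : Submodule F W, T ∈ inv g → mu f (T.map j) = mu g T := by
  intro T
  induction T using WellFoundedLT.induction with
  | ind T ih =>
    intro hT
    by_cases h0 : T = ⊥
    · subst h0; rw [Submodule.map_bot, mu_bot, mu_bot]
    have h0' : T.map j ≠ ⊥ := fun h => h0 (Submodule.map_injective_of_injective hj (by rw [h, Submodule.map_bot]))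
    rw [mu_eq f h0', mu_eq g h0]
    congr 1
    refine Finset.sum_bij' (fun U _ => U.comap j) (fun U _ => U.map j) ?_ ?_ ?_ ?_ ?_
    · intro U hU
      simp only [Finset.mem_filter, mem_inv] at hU ⊢
      refine ⟨fun w hw => ?_, lt_of_le_of_ne ?_ ?_⟩
      · show j (g w) ∈ U
        rw [← hc]; exact hU.1 _ hw
      · intro w hw
        obtain ⟨w', hw', e⟩ := hU.2.le hw
        rwa [← hj e]
      · rintro e
        apply hU.2.not_ge
        rintro _ ⟨w, hw, rfl⟩
        rw [← e] at hw
        exact hw
    · intro U hU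
      simp only [Finset.mem_filter, mem_inv] at hU ⊢
      refine ⟨?_, lt_of_le_of_ne (Submodule.map_mono hU.2.le) fun e => hU.2.ne (Submodule.map_injective_of_injective hj e)⟩
      rintro _ ⟨w, hw, rfl⟩
      exact ⟨g w, hU.1 w hw, (hc w).symm⟩
    · intro U hU
      simp only [Finset.mem_filter] at hU
      refine Submodule.map_comap_eq_of_le (hU.2.le.trans ?_)
      rintro _ ⟨w, -, rfl⟩
      exact ⟨w, rfl⟩
    · intro U hU
      exact Submodule.comap_map_eq_of_injective hj U
    · intro U hU
      simp only [Finset.mem_filter, mem_inv] at hU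
      have hle : U ≤ LinearMap.range j := hU.2.le.trans (by rintro _ ⟨w, -, rfl⟩; exact ⟨w, rfl⟩)
      have hmem : U.comap j ∈ inv g := mem_inv.mpr fun w hw => by
        show j (g w) ∈ U
        rw [← hc]; exact hU.1 _ hw
      have hlt : U.comap j < T := by
        refine lt_of_le_of_ne (fun w hw => ?_) fun e => hU.2.ne ?_
        · obtain ⟨w', hw', e⟩ := hU.2.le hw
          rwa [← hj e]
        · rw [← e, Submodule.map_comap_eq_of_le hle]
      rw [← ih _ hlt hmem, Submodule.map_comap_eq_of_le hle]

theorem mu_top_congr (f : Module.End F V) (g : Module.End F W) (e : W ≃ₗ[F] V)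
    (hc : ∀ w, f (e w) = e (g w)) : mu f ⊤ = mu g ⊤ := by
  rw [← mu_map f g e.toLinearMap e.injective hc ⊤ (top_mem g), Submodule.map_top,
    LinearEquiv.range]

variable {A U : Type v} [AddCommGroup A] [Module F A] [Finite A] [AddCommGroup U] [Module F U] [Finite U]

/-- Splitting off an irreducible summand. -/
theorem mu_prod (g : Module.End F A) (h : Module.End F U) [Nontrivial A]
    (hirr : ∀ T ∈ inv g, T = ⊥ ∨ T = ⊤) :
    mu (g.prodMap h) ⊤ = -(Nat.card {φ : U →ₗ[F] A // φ ∘ₗ h = g ∘ₗ φ} : ℤ) * mu h ⊤ := by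
  haveI : Fintype {φ : U →ₗ[F] A // φ ∘ₗ h = g ∘ₗ φ} := by
    haveI : Finite (U →ₗ[F] A) := Finite.of_injective _ DFunLike.coe_injective
    exact Fintype.ofFinite _
  let A' : Submodule F (A × U) := LinearMap.range (LinearMap.inl F A U)
  have hA' : A' ∈ inv (g.prodMap h) := mem_inv.mpr fun v hv => by
    obtain ⟨a, rfl⟩ := hv
    exact ⟨g a, by simp⟩
  have hA0 : A' ≠ ⊥ := fun e => by
    obtain ⟨a, ha⟩ := exists_ne (0 : A)
    have h1 : (a, (0 : U)) ∈ A' := ⟨a, rfl⟩
    rw [e, Submodule.mem_bot, Prod.mk_eq_zero] at h1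
    exact ha h1.1
  have key := weisner (g.prodMap h) hA' hA0 ⊤ (top_mem _) le_top
  have hm : (⊤ : Submodule F (A × U)) ∈ (inv (g.prodMap h)).filter fun W => W ⊔ A' = ⊤ :=
    Finset.mem_filter.mpr ⟨top_mem _, top_sup_eq _⟩
  rw [Finset.sum_eq_sum_sdiff_singleton_add hm (mu (g.prodMap h))] at key
  -- the graphs
  let j : (U →ₗ[F] A) → U →ₗ[F] A × U := fun φ => φ.prod LinearMap.id
  have hj : ∀ φ, Function.Injective (j φ) := fun φ u v e => congrArg Prod.snd e
  have hsum : ∑ W ∈ (inv (g.prodMap h)).filter (fun W => W ⊔ A' = ⊤) \ {⊤}, mu (g.prodMap h) W =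
      ∑ φ : {φ : U →ₗ[F] A // φ ∘ₗ h = g ∘ₗ φ}, mu h ⊤ := by
    symm
    refine Finset.sum_bij (fun φ _ => LinearMap.range (j φ.1)) ?_ ?_ ?_ ?_
    · intro φ _
      simp only [Finset.mem_sdiff, Finset.mem_filter, mem_inv, Finset.mem_singleton]
      refine ⟨⟨?_, eq_top_iff.mpr fun x _ => ?_⟩, fun e => ?_⟩
      · rintro _ ⟨u, rfl⟩
        exact ⟨h u, Prod.ext (LinearMap.congr_fun φ.2 u) rfl⟩
      · refine Submodule.mem_sup.mpr ⟨j φ.1 x.2, ⟨_, rfl⟩, (x.1 - φ.1 x.2, 0), ⟨_, rfl⟩, ?_⟩
        simp [j]
      · obtain ⟨a, ha⟩ := exists_ne (0 : A)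
        obtain ⟨u, hu⟩ := (e ▸ Submodule.mem_top : (a, (0 : U)) ∈ LinearMap.range (j φ.1))
        obtain ⟨hu1, hu2⟩ := Prod.mk.inj (show (φ.1 u, u) = (a, (0 : U)) from hu)
        exact ha (by simpa [hu2] using hu1.symm)
    · intro φ _ ψ _ e
      refine Subtype.ext (LinearMap.ext fun u => ?_)
      obtain ⟨v, hv⟩ := (e ▸ ⟨u, rfl⟩ : j φ.1 u ∈ LinearMap.range (j ψ.1))
      obtain ⟨hv1, hv2⟩ := Prod.mk.inj (show (ψ.1 v, v) = (φ.1 u, u) from hv)
      rw [← hv1, hv2]
    · intro T hT
      simp only [Finset.mem_sdiff, Finset.mem_filter, Finset.mem_singleton] at hT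
      obtain ⟨⟨hTi, hTs⟩, hTt⟩ := hT
      have hbot : T.comap (LinearMap.inl F A U) = ⊥ := by
        refine (hirr _ (mem_inv.mpr fun a ha => ?_)).resolve_right fun e => hTt ?_
        · have := mem_inv.mp hTi _ ha
          simpa [LinearMap.prodMap_apply] using this
        · rw [← hTs, eq_comm, sup_eq_left]
          rintro _ ⟨a, rfl⟩
          exact (e ▸ Submodule.mem_top : a ∈ T.comap (LinearMap.inl F A U))
      let p : T →ₗ[F] U := (LinearMap.snd F A U).comp T.subtype
      have hp : Function.Bijective p := by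
        constructor
        · rw [injective_iff_map_eq_zero]
          rintro ⟨⟨a, u⟩, hau⟩ (e : u = 0)
          subst e
          have : a ∈ T.comap (LinearMap.inl F A U) := hau
          rw [hbot, Submodule.mem_bot] at this
          subst this; rfl
        · intro u
          obtain ⟨t, ht, a, ⟨a, rfl⟩, e⟩ := Submodule.mem_sup.mp (hTs ▸ Submodule.mem_top : ((0 : A), u) ∈ T ⊔ A')
          exact ⟨⟨t, ht⟩, by simpa [p] using congrArg Prod.snd e⟩
      let q := LinearEquiv.ofBijective p hp
      let φ : U →ₗ[F] A := ((LinearMap.fst F A U).comp T.subtype).comp q.symm.toLinearMap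
      have hφ : ∀ u, (φ u, u) ∈ T := fun u => by
        have e : (q.symm u : A × U) = (φ u, u) := Prod.ext rfl (LinearEquiv.ofBijective_apply p (q.symm u) |>.symm.trans (q.apply_symm_apply u))
        exact e ▸ (q.symm u).2
      have hzero : ∀ a : A, (a, (0 : U)) ∈ T → a = 0 := fun a ha => by
        have : a ∈ T.comap (LinearMap.inl F A U) := ha
        rwa [hbot, Submodule.mem_bot] at this
      have hcomm : φ ∘ₗ h = g ∘ₗ φ := LinearMap.ext fun u => by
        have := T.sub_mem (hφ (h u)) (mem_inv.mp hTi _ (hφ u))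
        simp only [LinearMap.prodMap_apply, Prod.mk_sub_mk, sub_self] at this
        exact sub_eq_zero.mp (hzero _ this)
      refine ⟨⟨φ, hcomm⟩, Finset.mem_univ _, ?_⟩
      refine le_antisymm ?_ ?_
      · rintro _ ⟨u, rfl⟩; exact hφ u
      · rintro ⟨a, u⟩ hau
        have := T.sub_mem hau (hφ u)
        simp only [Prod.mk_sub_mk, sub_self] at this
        exact ⟨u, by simp [j, sub_eq_zero.mp (hzero _ this)]⟩
    · intro φ _
      rw [← mu_map (g.prodMap h) h (j φ.1) (hj _) (fun u => Prod.ext (LinearMap.congr_fun φ.2 u).symm rfl) ⊤ (top_mem h),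
        Submodule.map_top]
  rw [hsum, Finset.sum_const, Finset.card_univ, nsmul_eq_mul, ← Nat.card_eq_fintype_card] at key
  linear_combination key

variable {q : F[X]}

theorem rootMul_invariant (hq : Irreducible q) {T : Submodule F (AdjoinRoot q)}
    (hT : ∀ v ∈ T, Semisimple.rootMul q v ∈ T) : T = ⊥ ∨ T = ⊤ := by
  haveI := Fact.mk hq
  refine or_iff_not_imp_left.mpr fun h => eq_top_iff.mpr fun z _ => ?_
  obtain ⟨w, hw, hw0⟩ := T.ne_bot_iff.mp h
  have hmul : ∀ p : F[X], ∀ v ∈ T, AdjoinRoot.mk q p * v ∈ T := by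
    intro p
    induction p using Polynomial.induction_on' with
    | add p r hp hr => intro v hv; rw [map_add, add_mul]; exact T.add_mem (hp v hv) (hr v hv)
    | monomial m c =>
      induction m with
      | zero =>
        intro v hv
        rw [Polynomial.monomial_zero_left, AdjoinRoot.mk_C, ← AdjoinRoot.algebraMap_eq, ← Algebra.smul_def]
        exact T.smul_mem c hv
      | succ m ihm =>
        intro v hv
        have := hT _ (ihm v hv)
        rw [Semisimple.rootMul, LinearMap.mulLeft_apply, ← mul_assoc] at this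
        rwa [← Polynomial.monomial_mul_X, map_mul, AdjoinRoot.mk_X, mul_comm (AdjoinRoot.mk q _)]
  obtain ⟨p, hp⟩ := AdjoinRoot.mk_surjective (z * w⁻¹)
  have := hmul p w hw
  rwa [hp, inv_mul_cancel_right₀ hw0] at this

theorem card_adjoinRoot (hm : q.Monic) : Nat.card (AdjoinRoot q) = Fintype.card F ^ q.natDegree := by
  haveI := (AdjoinRoot.powerBasis' hm).finite
  rw [Module.natCard_eq_pow_finrank (K := F), Nat.card_eq_fintype_card,
    (AdjoinRoot.powerBasis' hm).finrank, AdjoinRoot.powerBasis'_dim]

/-- Homomorphisms out of a simple module into a simple module. -/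
theorem card_hom_root {r : F[X]} (hq : Irreducible q) (hqm : q.Monic) (hr : Irreducible r) (hrm : r.Monic) :
    Nat.card {φ : AdjoinRoot r →ₗ[F] AdjoinRoot q // φ ∘ₗ Semisimple.rootMul r = Semisimple.rootMul q ∘ₗ φ} =
      if r = q then Fintype.card F ^ q.natDegree else 1 := by
  haveI := Fact.mk hq
  have hev : ∀ φ : AdjoinRoot r →ₗ[F] AdjoinRoot q, φ ∘ₗ Semisimple.rootMul r = Semisimple.rootMul q ∘ₗ φ →
      ∀ p : F[X], φ (AdjoinRoot.mk r p) = AdjoinRoot.mk q p * φ 1 := by
    intro φ hφ p
    induction p using Polynomial.induction_on' with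
    | add a b ha hb => rw [map_add, map_add, ha, hb, map_add, add_mul]
    | monomial m c =>
      induction m with
      | zero =>
        rw [Polynomial.monomial_zero_left, AdjoinRoot.mk_C, AdjoinRoot.mk_C, ← AdjoinRoot.algebraMap_eq,
          ← AdjoinRoot.algebraMap_eq, Algebra.algebraMap_eq_smul_one, map_smul, Algebra.algebraMap_eq_smul_one,
          smul_mul_assoc, one_mul]
      | succ m ihm =>
        have := LinearMap.congr_fun hφ (AdjoinRoot.mk r (monomial m c))
        simp only [LinearMap.comp_apply, Semisimple.rootMul, LinearMap.mulLeft_apply] at this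
        rw [← Polynomial.monomial_mul_X, map_mul (AdjoinRoot.mk r), map_mul (AdjoinRoot.mk q), AdjoinRoot.mk_X, AdjoinRoot.mk_X,
          mul_comm (AdjoinRoot.mk r _), this, ihm]
        ring
  split_ifs with h
  · subst h
    rw [← card_adjoinRoot hrm]
    refine Nat.card_congr (Equiv.ofBijective (fun φ => φ.1 1) ⟨fun φ ψ e => ?_, fun a => ?_⟩)
    · refine Subtype.ext (LinearMap.ext fun z => ?_)
      obtain ⟨p, rfl⟩ := AdjoinRoot.mk_surjective z
      rw [hev _ φ.2, hev _ ψ.2]
      exact congrArg (fun b => AdjoinRoot.mk r p * b) e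
    · refine ⟨⟨LinearMap.mulRight F a, LinearMap.ext fun z => ?_⟩, by simp⟩
      simp [Semisimple.rootMul, mul_assoc]
  · rw [Nat.card_eq_one_iff_unique]
    refine ⟨⟨fun φ ψ => ?_⟩, ⟨⟨0, by simp⟩⟩⟩
    have hz : ∀ χ : {φ : AdjoinRoot r →ₗ[F] AdjoinRoot q // φ ∘ₗ Semisimple.rootMul r = Semisimple.rootMul q ∘ₗ φ},
        χ.1 = 0 := by
      intro χ
      have h1 := hev _ χ.2 r
      rw [AdjoinRoot.mk_self, map_zero, eq_comm, mul_eq_zero, AdjoinRoot.mk_eq_zero] at h1
      have hnd : ¬ q ∣ r := fun hd =>
        h (eq_of_monic_of_associated hrm hqm ((hq.associated_of_dvd hr hd).symm))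
      refine LinearMap.ext fun z => ?_
      obtain ⟨p, rfl⟩ := AdjoinRoot.mk_surjective z
      rw [hev _ χ.2, h1.resolve_left hnd, mul_zero, LinearMap.zero_apply]
    exact Subtype.ext ((hz φ).trans (hz ψ).symm)

/-- Homomorphisms out of a product. -/
theorem card_hom_prod {B : Type v} [AddCommGroup B] [Module F B] [Finite B] (g : Module.End F A)
    (h₁ : Module.End F B) (h₂ : Module.End F U) :
    Nat.card {φ : B × U →ₗ[F] A // φ ∘ₗ h₁.prodMap h₂ = g ∘ₗ φ} =
      Nat.card {φ : B →ₗ[F] A // φ ∘ₗ h₁ = g ∘ₗ φ} * Nat.card {φ : U →ₗ[F] A // φ ∘ₗ h₂ = g ∘ₗ φ} := by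
  rw [← Nat.card_prod]
  refine Nat.card_congr
    { toFun := fun φ => (⟨φ.1 ∘ₗ LinearMap.inl F B U, LinearMap.ext fun b => by
          simpa using LinearMap.congr_fun φ.2 (b, 0)⟩, ⟨φ.1 ∘ₗ LinearMap.inr F B U, LinearMap.ext fun u => by
          simpa using LinearMap.congr_fun φ.2 (0, u)⟩)
      invFun := fun p => ⟨p.1.1.coprod p.2.1, LinearMap.ext fun x => by
          have a := LinearMap.congr_fun p.1.2 x.1
          have b := LinearMap.congr_fun p.2.2 x.2
          simp only [LinearMap.comp_apply] at a b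
          simp [a, b]⟩
      left_inv := fun φ => Subtype.ext (LinearMap.ext fun x => by simp [← map_add])
      right_inv := fun p => Prod.ext (Subtype.ext (LinearMap.ext fun b => by simp))
        (Subtype.ext (LinearMap.ext fun u => by simp)) }

/-- Homomorphisms from a semisimple module into a simple one. -/
theorem card_hom (hq : Irreducible q) (hqm : q.Monic) : ∀ (d : ℕ) {U : Type v} [AddCommGroup U] [Module F U] [Finite U]
    (h : Module.End F U), finrank F U ≤ d → h.IsSemisimple →
    Nat.card {φ : U →ₗ[F] AdjoinRoot q // φ ∘ₗ h = Semisimple.rootMul q ∘ₗ φ} =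
      (Fintype.card F ^ q.natDegree) ^ (UniqueFactorizationMonoid.normalizedFactors h.charpoly).count q := by
  intro d
  induction d using Nat.strong_induction_on with
  | _ d ih =>
    intro U _ _ _ h hd hs
    haveI : FiniteDimensional F U := Module.Finite.of_finite
    rcases Nat.eq_zero_or_pos (finrank F U) with h0 | h0
    · haveI : Subsingleton U := Module.finrank_zero_iff.1 h0
      have h1 : h.charpoly = 1 := (LinearMap.charpoly_monic h).natDegree_eq_zero.mp (by rw [h.charpoly_natDegree, h0])
      rw [h1, UniqueFactorizationMonoid.normalizedFactors_one, Multiset.count_zero, pow_zero,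
        Nat.card_eq_one_iff_unique]
      exact ⟨⟨fun φ ψ => Subtype.ext (LinearMap.ext fun u => by
        rw [Subsingleton.elim u 0, map_zero, map_zero])⟩, ⟨⟨0, by simp⟩⟩⟩
    obtain ⟨r, hrm, hr, hrd⟩ := Polynomial.exists_monic_irreducible_factor h.charpoly
      (not_isUnit_of_natDegree_pos _ (by rw [h.charpoly_natDegree]; exact h0))
    obtain ⟨U', hU', e, he⟩ := Semisimple.exists_summand h hs hr hrm hrd
    haveI := (AdjoinRoot.powerBasis' hrm).finite
    haveI : Finite (AdjoinRoot r) := Module.finite_of_finite F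
    haveI := (AdjoinRoot.powerBasis' hqm).finite
    haveI : Finite (AdjoinRoot q) := Module.finite_of_finite F
    have hch := Semisimple.charpoly_of_summand hrm e he
    have hlt : finrank F U' < d := by
      have h1 := congrArg natDegree hch
      rw [h.charpoly_natDegree, natDegree_mul hrm.ne_zero (LinearMap.charpoly_monic _).ne_zero,
        LinearMap.charpoly_natDegree] at h1
      have := hr.natDegree_pos
      omega
    have hcongr : Nat.card {φ : U →ₗ[F] AdjoinRoot q // φ ∘ₗ h = Semisimple.rootMul q ∘ₗ φ} =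
        Nat.card {φ : AdjoinRoot r × U' →ₗ[F] AdjoinRoot q //
          φ ∘ₗ (Semisimple.rootMul r).prodMap (h.restrict hU') = Semisimple.rootMul q ∘ₗ φ} := by
      refine Nat.card_congr
        { toFun := fun φ => ⟨φ.1 ∘ₗ e.toLinearMap, LinearMap.ext fun z => by
            have := LinearMap.congr_fun φ.2 (e z)
            simp only [LinearMap.comp_apply, LinearEquiv.coe_coe] at this ⊢
            rw [← he, this]⟩
          invFun := fun φ => ⟨φ.1 ∘ₗ e.symm.toLinearMap, LinearMap.ext fun u => by
            obtain ⟨z, rfl⟩ := e.surjective u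
            have := LinearMap.congr_fun φ.2 z
            simp only [LinearMap.comp_apply, LinearEquiv.coe_coe] at this ⊢
            rw [he, e.symm_apply_apply, e.symm_apply_apply, this]⟩
          left_inv := fun φ => Subtype.ext (LinearMap.ext fun u => by simp)
          right_inv := fun φ => Subtype.ext (LinearMap.ext fun z => by simp) }
    rw [hcongr, card_hom_prod, card_hom_root hq hqm hr hrm, ih _ hlt (h.restrict hU') le_rfl (hs.restrict hU'), hch,
      UniqueFactorizationMonoid.normalizedFactors_mul hrm.ne_zero (LinearMap.charpoly_monic _).ne_zero,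
      UniqueFactorizationMonoid.normalizedFactors_irreducible hr, hrm.normalize_eq_self, Multiset.singleton_add,
      Multiset.count_cons]
    by_cases hrq : r = q
    · subst hrq; rw [if_pos rfl, if_pos rfl, pow_succ']
    · rw [if_neg hrq, if_neg (Ne.symm hrq), one_mul, add_zero]

/-- The value attached to a multiset of factors. -/
noncomputable def val (c : ℕ) (M : Multiset F[X]) : ℤ :=
  ∏ r ∈ M.toFinset, (-1) ^ M.count r * ((c : ℤ) ^ r.natDegree) ^ (M.count r).choose 2

theorem val_cons (c : ℕ) (q : F[X]) (M : Multiset F[X]) :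
    val c (q ::ₘ M) = -(((c : ℤ) ^ q.natDegree) ^ M.count q) * val c M := by
  have h1 : val c (q ::ₘ M) = ∏ r ∈ insert q M.toFinset,
      (-1) ^ (q ::ₘ M).count r * ((c : ℤ) ^ r.natDegree) ^ ((q ::ₘ M).count r).choose 2 := by
    rw [val, Multiset.toFinset_cons]
  have h2 : val c M = ∏ r ∈ insert q M.toFinset, (-1) ^ M.count r * ((c : ℤ) ^ r.natDegree) ^ (M.count r).choose 2 := by
    rw [val]
    refine Finset.prod_subset (Finset.subset_insert _ _) fun r _ hr => ?_
    rw [Multiset.count_eq_zero.mpr (by simpa using hr)]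
    simp
  rw [h1, h2, ← Finset.mul_prod_erase _ _ (Finset.mem_insert_self q _),
    ← Finset.mul_prod_erase _ _ (Finset.mem_insert_self q _), Multiset.count_cons_self]
  rw [Finset.prod_congr rfl fun r hr => by rw [Multiset.count_cons_of_ne (Finset.ne_of_mem_erase hr)],
    Nat.choose_succ_succ', Nat.choose_one_right, pow_succ, pow_add]
  ring

/-- The Möbius function of a semisimple endomorphism. -/
theorem mu_top : ∀ (d : ℕ) {V : Type v} [AddCommGroup V] [Module F V] [Finite V] (f : Module.End F V),
    finrank F V ≤ d → f.IsSemisimple →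
    mu f ⊤ = val (Fintype.card F) (UniqueFactorizationMonoid.normalizedFactors f.charpoly) := by
  intro d
  induction d using Nat.strong_induction_on with
  | _ d ih =>
    intro V _ _ _ f hd hs
    haveI : FiniteDimensional F V := Module.Finite.of_finite
    rcases Nat.eq_zero_or_pos (finrank F V) with h0 | h0
    · haveI : Subsingleton V := Module.finrank_zero_iff.1 h0
      have h1 : f.charpoly = 1 := (LinearMap.charpoly_monic f).natDegree_eq_zero.mp (by rw [f.charpoly_natDegree, h0])
      rw [h1, UniqueFactorizationMonoid.normalizedFactors_one, Subsingleton.elim (⊤ : Submodule F V) ⊥, mu_bot]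
      simp [val]
    obtain ⟨r, hrm, hr, hrd⟩ := Polynomial.exists_monic_irreducible_factor f.charpoly
      (not_isUnit_of_natDegree_pos _ (by rw [f.charpoly_natDegree]; exact h0))
    obtain ⟨U, hU, e, he⟩ := Semisimple.exists_summand f hs hr hrm hrd
    haveI := (AdjoinRoot.powerBasis' hrm).finite
    haveI : Finite (AdjoinRoot r) := Module.finite_of_finite F
    haveI : Nontrivial (AdjoinRoot r) := AdjoinRoot.nontrivial _ (by
      rw [Polynomial.degree_eq_natDegree hrm.ne_zero]; exact_mod_cast hr.natDegree_pos.ne')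
    have hch := Semisimple.charpoly_of_summand hrm e he
    have hlt : finrank F U < d := by
      have h1 := congrArg natDegree hch
      rw [f.charpoly_natDegree, natDegree_mul hrm.ne_zero (LinearMap.charpoly_monic _).ne_zero,
        LinearMap.charpoly_natDegree] at h1
      have := hr.natDegree_pos
      omega
    rw [mu_top_congr f _ e he, mu_prod _ _ fun T hT => rootMul_invariant hr (mem_inv.mp hT),
      card_hom hr hrm _ (f.restrict hU) le_rfl (hs.restrict hU), ih _ hlt (f.restrict hU) le_rfl (hs.restrict hU),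
      hch, UniqueFactorizationMonoid.normalizedFactors_mul hrm.ne_zero (LinearMap.charpoly_monic _).ne_zero,
      UniqueFactorizationMonoid.normalizedFactors_irreducible hr, hrm.normalize_eq_self, Multiset.singleton_add,
      val_cons]
    push_cast
    ring

end Cfsg.Agent.Small.SteinbergGL
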