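import Cfsg.Agent.Lib.Small.SteinbergGL.Chains
import Cfsg.Agent.Lib.Classical.CoordParabolic

/-!
# The Steinberg character of `GL_n(q)` at semisimple elements
-/

set_option autoImplicit false
set_option linter.unusedSectionVars false
set_option linter.style.haveILetI false

namespace Cfsg.Agent.Small.SteinbergGL

open Module Matrix
open Cfsg.Agent.Small.Flags (cumSum cumSum_mono lab lab_val lt_compLabel_iff compLabel_mono compLabel_lt)
open scoped _root_.Classical

universe v

variable {F : Type v} [Field F] [Fintype F] {n : ℕ}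

theorem finrank_W {k : ℕ} (hk : k ≤ n) : finrank F (Cfsg.Agent.Classical.Coord.W n F k) = k := by
  let ι : (Fin k → F) →ₗ[F] (Fin n → F) :=
    { toFun := fun v i => if h : i.val < k then v ⟨i.val, h⟩ else 0
      map_add' := fun u v => by funext i; by_cases h : i.val < k <;> simp [h]
      map_smul' := fun c v => by funext i; by_cases h : i.val < k <;> simp [h] }
  have hi : Function.Injective ι := fun u v e => funext fun i => by
    have := congrFun e ⟨i.val, lt_of_lt_of_le i.2 hk⟩
    simpa [ι, i.2] using this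
  have hr : LinearMap.range ι = Cfsg.Agent.Classical.Coord.W n F k := by
    ext v
    rw [Cfsg.Agent.Classical.Coord.mem_W]
    constructor
    · rintro ⟨u, rfl⟩ i hi
      simp [ι, not_lt.mpr hi]
    · intro h
      refine ⟨fun i => v ⟨i.val, lt_of_lt_of_le i.2 hk⟩, funext fun i => ?_⟩
      by_cases hik : i.val < k
      · simp [ι, hik]
      · simp [ι, hik, h i (not_lt.mp hik)]
  rw [← hr, LinearMap.finrank_range_of_inj hi, finrank_fintype_fun_eq_card, Fintype.card_fin]

variable {μ : Fin n → ℕ}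

theorem cumSum_le (hμ : ∑ i, μ i = n) (j : Fin n) : cumSum μ j ≤ n :=
  le_of_le_of_eq (Finset.sum_le_sum_of_subset (Finset.filter_subset _ _)) hμ

theorem cumSum_zero {m : ℕ} (ν : Fin (m + 1) → ℕ) : cumSum ν 0 = ν 0 := by
  rw [cumSum, show (Finset.univ.filter fun k : Fin (m + 1) => k ≤ 0) = {0} by ext k; simp, Finset.sum_singleton]

theorem cumSum_succ {m : ℕ} (ν : Fin (m + 1) → ℕ) (j : Fin m) :
    cumSum ν j.succ = cumSum ν j.castSucc + ν j.succ := by
  rw [cumSum, cumSum, show (Finset.univ.filter fun k : Fin (m + 1) => k ≤ j.succ) =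
    insert j.succ (Finset.univ.filter fun k : Fin (m + 1) => k ≤ j.castSucc) by
      ext k; simp [Fin.ext_iff, Fin.le_def]; omega,
    Finset.sum_insert (by simp [Fin.le_def]), add_comm]

theorem cumSum_last {m : ℕ} (ν : Fin (m + 1) → ℕ) : cumSum ν (Fin.last m) = ∑ i, ν i := by
  rw [cumSum, Finset.filter_true_of_mem fun k _ => Fin.le_last k]

theorem mem_parabolic (hμ : ∑ i, μ i = n) {g : GL (Fin n) F} :
    g ∈ Cfsg.parabolicGL n F μ ↔ ∀ j : Fin n, ∀ v ∈ Cfsg.Agent.Classical.Coord.W n F (cumSum μ j),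
      Matrix.toLin' g.1 v ∈ Cfsg.Agent.Classical.Coord.W n F (cumSum μ j) := by
  have key : ∀ (j : Fin n) (v : Fin n → F), v ∈ Cfsg.Agent.Classical.Coord.W n F (cumSum μ j) ↔
      ∀ i, j.val + 1 ≤ compLabel μ i → v i = 0 := fun j v => by
    rw [Cfsg.Agent.Classical.Coord.mem_W]
    exact forall_congr' fun i => by rw [← lt_compLabel_iff μ i j]; rfl
  constructor
  · intro hg j v hv
    rw [key, Matrix.toLin'_apply]
    exact Cfsg.Agent.Small.Flags.parabolic_mulVec hg ((key j v).mp hv)
  · intro h i c hci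
    obtain ⟨j, hj⟩ : ∃ j : Fin n, j.val = compLabel μ c := ⟨⟨_, compLabel_lt hμ c⟩, rfl⟩
    have hv : Pi.single c (1 : F) ∈ Cfsg.Agent.Classical.Coord.W n F (cumSum μ j) := by
      rw [key]
      intro i' hi'
      rw [Pi.single_eq_of_ne]
      rintro rfl
      omega
    have := (key j _).mp (h j _ hv) i (by omega)
    simpa [Matrix.toLin'_apply, Matrix.mulVec_single_one] using this

/-- Fixed cosets are invariant flags. -/
theorem card_fixed (hμ : ∑ i, μ i = n) (x : GL (Fin n) F) :
    Nat.card (MulAction.fixedBy (GL (Fin n) F ⧸ Cfsg.parabolicGL n F μ) x) = cnt (Matrix.toLin' x.1) ⊥ μ := by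
  let Wc : Fin n → Submodule F (Fin n → F) := fun j => Cfsg.Agent.Classical.Coord.W n F (cumSum μ j)
  let Φ : GL (Fin n) F → Fin n → Submodule F (Fin n → F) := fun g j => (Wc j).map (Matrix.toLin' g.1)
  have hmul : ∀ (g h : GL (Fin n) F) (v : Fin n → F),
      Matrix.toLin' (g * h).1 v = Matrix.toLin' g.1 (Matrix.toLin' h.1 v) := fun g h v => by
    rw [Units.val_mul, Matrix.toLin'_mul]; rfl
  have hinv : ∀ (g : GL (Fin n) F) (v : Fin n → F), Matrix.toLin' (g⁻¹).1 (Matrix.toLin' g.1 v) = v := fun g v => by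
    rw [← hmul, inv_mul_cancel, Units.val_one, Matrix.toLin'_one]; rfl
  have hinv' : ∀ (g : GL (Fin n) F) (v : Fin n → F), Matrix.toLin' g.1 (Matrix.toLin' (g⁻¹).1 v) = v := fun g v => by
    rw [← hmul, mul_inv_cancel, Units.val_one, Matrix.toLin'_one]; rfl
  have hinj : ∀ g : GL (Fin n) F, Function.Injective (Matrix.toLin' g.1) := fun g u v e => by
    rw [← hinv g u, e, hinv]
  have hdim : ∀ g j, finrank F (Φ g j) = cumSum μ j := fun g j => by
    rw [← (Submodule.equivMapOfInjective _ (hinj g) (Wc j)).finrank_eq]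
    exact finrank_W (cumSum_le hμ j)
  have hP : ∀ g h : GL (Fin n) F, g⁻¹ * h ∈ Cfsg.parabolicGL n F μ ↔ ∀ j, Φ h j ≤ Φ g j := fun g h => by
    rw [mem_parabolic hμ]
    refine forall_congr' fun j => ⟨?_, fun e v hv => ?_⟩
    · rintro e _ ⟨v, hv, rfl⟩
      exact ⟨_, e v hv, by rw [hmul, hinv']⟩
    · obtain ⟨w, hw, ew⟩ := e ⟨v, hv, rfl⟩
      rw [hmul, ← ew, hinv]
      exact hw
  have hwd : ∀ g h : GL (Fin n) F, g⁻¹ * h ∈ Cfsg.parabolicGL n F μ ↔ Φ g = Φ h := fun g h => by
    rw [hP]
    exact ⟨fun e => funext fun j => (Submodule.eq_of_le_of_finrank_eq (e j) (by rw [hdim, hdim])).symm,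
      fun e j => by rw [e]⟩
  let Ψ : GL (Fin n) F ⧸ Cfsg.parabolicGL n F μ → Fin n → Submodule F (Fin n → F) :=
    fun c => Quotient.liftOn' c Φ fun g h e => (hwd g h).mp (QuotientGroup.leftRel_apply.mp e)
  have hΨ : Function.Injective Ψ := by
    intro c d
    refine Quotient.inductionOn₂' c d fun g h e => ?_
    exact QuotientGroup.eq.mpr ((hwd g h).mpr e)
  have hfix : ∀ g : GL (Fin n) F, x • (g : GL (Fin n) F ⧸ Cfsg.parabolicGL n F μ) = g ↔
      ∀ j, ∀ v ∈ Φ g j, Matrix.toLin' x.1 v ∈ Φ g j := fun g => by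
    rw [MulAction.Quotient.smul_coe, smul_eq_mul, eq_comm, QuotientGroup.eq, hP]
    refine forall_congr' fun j => ⟨fun e v hv => ?_, ?_⟩
    · obtain ⟨w, hw, rfl⟩ := hv
      exact e ⟨w, hw, hmul x g w⟩
    · rintro e _ ⟨w, hw, rfl⟩
      rw [hmul]
      exact e _ ⟨w, hw, rfl⟩
  rw [cnt, ← Set.ncard_coe_finset, ← Nat.card_coe_set_eq]
  rcases n with _ | m
  · haveI : Subsingleton (GL (Fin 0) F) := ⟨fun a b => Units.ext (Subsingleton.elim _ _)⟩
    haveI : Subsingleton (GL (Fin 0) F ⧸ Cfsg.parabolicGL 0 F μ) :=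
      Function.Surjective.subsingleton (QuotientGroup.mk_surjective)
    refine Nat.card_congr (Equiv.ofBijective (fun c => ⟨Ψ c.1, ?_⟩) ⟨fun a b _ => Subsingleton.elim _ _, ?_⟩)
    · simp only [Finset.coe_filter, Finset.mem_univ, true_and, Set.mem_setOf_eq]
      exact ⟨fun i => i.elim0, Subsingleton.elim _ _⟩
    · intro U
      exact ⟨⟨QuotientGroup.mk 1, Subsingleton.elim _ _⟩, Subtype.ext (funext fun i => i.elim0)⟩
  refine Nat.card_congr (Equiv.ofBijective (fun c => ⟨Ψ c.1, ?_⟩) ⟨fun a b e => Subtype.ext (hΨ (congrArg Subtype.val e)), ?_⟩)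
  · obtain ⟨c, hc⟩ := c
    obtain ⟨g, rfl⟩ := QuotientGroup.mk_surjective c
    simp only [Finset.coe_filter, Finset.mem_univ, true_and, Set.mem_setOf_eq]
    have hmono : ∀ j j' : Fin (m + 1), j ≤ j' → Φ g j ≤ Φ g j' := fun j j' h => Submodule.map_mono fun v hv i hi =>
      hv i (le_trans (cumSum_mono μ h) hi)
    refine ⟨fun i => ⟨(hfix g).mp hc i, ?_⟩, ?_⟩
    · show _ ≤ Φ g i ∧ finrank F (Φ g i) = _
      refine Fin.cases ?_ (fun j => ?_) i
      · rw [Fin.castSucc_zero, Fin.cons_zero, finrank_bot, zero_add, hdim, cumSum_zero]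
        exact ⟨bot_le, rfl⟩
      · rw [Fin.castSucc_succ, Fin.cons_succ]
        exact ⟨hmono _ _ (Fin.castSucc_le_succ j), by rw [show Ψ (QuotientGroup.mk g) = Φ g from rfl, hdim, hdim, cumSum_succ]⟩
    · rw [← Fin.succ_last, Fin.cons_succ]
      refine Submodule.eq_top_of_finrank_eq ?_
      rw [show Ψ (QuotientGroup.mk g) = Φ g from rfl, hdim, cumSum_last, hμ, finrank_fintype_fun_eq_card, Fintype.card_fin]
  · rintro ⟨U, hU⟩
    simp only [Finset.coe_filter, Finset.mem_univ, true_and, Set.mem_setOf_eq] at hU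
    obtain ⟨hU, -⟩ := hU
    have hd : ∀ j, finrank F (U j) = cumSum μ j := by
      intro j
      induction j using Fin.induction with
      | zero => rw [(hU 0).2.2, Fin.castSucc_zero, Fin.cons_zero, finrank_bot, zero_add, cumSum_zero]
      | succ j ih => rw [(hU j.succ).2.2, Fin.castSucc_succ, Fin.cons_succ, ih, cumSum_succ]
    have hmono : Monotone U := Fin.monotone_iff_le_succ.mpr fun j => by
      have := (hU j.succ).2.1
      rwa [Fin.castSucc_succ, Fin.cons_succ] at this
    have hv : ∀ k, (hk : k ≤ m + 1) → ∃ v : Fin k → (Fin (m + 1) → F), LinearIndependent F v ∧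
        ∀ l : Fin k, v l ∈ U (lab hμ ⟨l.val, lt_of_lt_of_le l.2 hk⟩) := by
      intro k
      induction k with
      | zero => exact fun _ => ⟨Fin.elim0, linearIndependent_empty_type, fun l => l.elim0⟩
      | succ k ih =>
        intro hk
        obtain ⟨v, hli, hmem⟩ := ih (by omega)
        obtain ⟨j, hj⟩ : ∃ j, j = lab hμ ⟨k, hk⟩ := ⟨_, rfl⟩
        have hlt : k < cumSum μ j := by
          by_contra hle
          have := (lt_compLabel_iff μ (⟨k, hk⟩ : Fin (m + 1)) j).mpr (not_lt.mp hle)
          rw [hj, lab_val] at this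
          exact lt_irrefl _ this
        obtain ⟨w, hw, hw'⟩ : ∃ w ∈ U j, w ∉ Submodule.span F (Set.range v) := by
          by_contra! hle
          have h2 : finrank F (U j) ≤ finrank F (Submodule.span F (Set.range v)) := Submodule.finrank_mono hle
          rw [hd, finrank_span_eq_card hli, Fintype.card_fin] at h2
          omega
        refine ⟨Fin.snoc v w, linearIndependent_fin_snoc.mpr ⟨hli, hw'⟩, fun l => ?_⟩
        refine Fin.lastCases ?_ (fun l => ?_) l
        · rw [Fin.snoc_last]; exact hj ▸ hw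
        · rw [Fin.snoc_castSucc]; exact hmem l
    obtain ⟨v, hli, hmem⟩ := hv (m + 1) le_rfl
    obtain ⟨M, hM⟩ : ∃ M : Matrix (Fin (m + 1)) (Fin (m + 1)) F, M = Matrix.of fun i l => v l i := ⟨_, rfl⟩
    have hunit : IsUnit M := Matrix.linearIndependent_cols_iff_isUnit.mp (by rw [hM]; exact hli)
    have hΦ : Φ hunit.unit = U := funext fun j => by
      refine Submodule.eq_of_le_of_finrank_eq ?_ (by rw [hdim, hd])
      rintro _ ⟨w, hw, rfl⟩
      have e : Matrix.toLin' hunit.unit.1 w = ∑ l, w l • v l := by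
        funext i
        rw [IsUnit.unit_spec, Matrix.toLin'_apply, hM]
        simp [Matrix.mulVec, dotProduct, Finset.sum_apply, mul_comm]
      rw [e]
      refine Submodule.sum_mem _ fun l _ => ?_
      by_cases hl : l.val < cumSum μ j
      · refine Submodule.smul_mem _ _ (hmono ?_ (hmem l))
        show compLabel μ l ≤ j.val
        by_contra hlt
        have := (lt_compLabel_iff μ l j).mp (not_le.mp hlt)
        omega
      · rw [hw l (not_lt.mp hl), zero_smul]; exact Submodule.zero_mem _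
    refine ⟨⟨QuotientGroup.mk hunit.unit, (hfix _).mpr ?_⟩, Subtype.ext hΦ⟩
    rw [hΦ]
    exact fun j => (hU j).1

theorem unipotent_value (x : GL (Fin n) F) :
    Cfsg.unipotentCharacterGL n F (fun _ => 1) x = ((-1 : ℤ) ^ n * mu (Matrix.toLin' x.1) ⊤ : ℤ) := by
  have hn : finrank F (Fin n → F) = n := by rw [finrank_fintype_fun_eq_card, Fintype.card_fin]
  have h := alt_bot (Matrix.toLin' x.1)
  rw [hn] at h
  rw [← h, alt, Cfsg.unipotentCharacterGL, Int.cast_sum]
  refine Finset.sum_congr rfl fun κ _ => ?_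
  have hty : (fun i : Fin n => ty 1 i (κ i)) = fun i => 1 + i.val - (κ i).val := funext fun i => by
    unfold ty; split_ifs <;> omega
  by_cases hc : ∀ i : Fin n, (κ i).val ≤ i.val + 1
  · have hc' : ∀ i : Fin n, (κ i).val ≤ 1 + i.val := fun i => by have := hc i; omega
    have hsum : ∑ i : Fin n, (1 + i.val - (κ i).val) = n := by
      refine Nat.add_right_cancel (m := ∑ i : Fin n, i.val) ?_
      conv_lhs => arg 2; rw [← Equiv.sum_comp κ (fun i : Fin n => i.val)]
      rw [← Finset.sum_add_distrib, Finset.sum_congr rfl fun i _ => Nat.sub_add_cancel (hc' i), Finset.sum_add_distrib]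
      simp
    rw [if_pos hc', if_pos hc, hty, Cfsg.fixedPointCharacter, card_fixed hsum x]
    push_cast
    rfl
  · rw [if_neg (fun h => hc fun i => by have := h i; omega), if_neg hc, Int.cast_zero]

/-- The Steinberg character at a semisimple element. -/
theorem steinberg_value (p : ℕ) [Fact p.Prime] [CharP F p] {q : ℕ} (hq : Fintype.card F = q) (x : GL (Fin n) F)
    (hx : (orderOf x).Coprime p) :
    Cfsg.unipotentCharacterGL n F (fun _ => 1) x =
      ∏ f ∈ (UniqueFactorizationMonoid.normalizedFactors (x : Matrix (Fin n) (Fin n) F).charpoly).toFinset,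
        (-1 : ℂ) ^ ((f.natDegree - 1) * (UniqueFactorizationMonoid.normalizedFactors (x : Matrix (Fin n) (Fin n) F).charpoly).count f) *
          (q : ℂ) ^ (f.natDegree * (UniqueFactorizationMonoid.normalizedFactors (x : Matrix (Fin n) (Fin n) F).charpoly).count f *
            ((UniqueFactorizationMonoid.normalizedFactors (x : Matrix (Fin n) (Fin n) F).charpoly).count f - 1) / 2) := by
  rw [unipotent_value, mu_top _ _ le_rfl (Semisimple.matrix_isSemisimple p x hx), Matrix.charpoly_toLin', hq]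
  obtain ⟨M, hM⟩ : ∃ M, M = UniqueFactorizationMonoid.normalizedFactors (x : Matrix (Fin n) (Fin n) F).charpoly := ⟨_, rfl⟩
  have hne : (x : Matrix (Fin n) (Fin n) F).charpoly ≠ 0 := (Matrix.charpoly_monic _).ne_zero
  have hdeg : n = ∑ f ∈ M.toFinset, M.count f * f.natDegree := by
    have hassoc := UniqueFactorizationMonoid.prod_normalizedFactors hne
    rw [← hM] at hassoc
    have h0 : M.prod.natDegree = n := by
      rw [Polynomial.natDegree_eq_of_degree_eq (Polynomial.degree_eq_degree_of_associated hassoc),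
        Matrix.charpoly_natDegree_eq_dim, Fintype.card_fin]
    rw [← h0, Polynomial.natDegree_multiset_prod _ (fun h => ?_), Finset.sum_multiset_map_count]
    · exact Finset.sum_congr rfl fun f _ => by rw [smul_eq_mul]
    · rw [hM] at h
      exact (UniqueFactorizationMonoid.prime_of_normalized_factor _ h).ne_zero rfl
  rw [← hM]
  nth_rewrite 1 [hdeg]
  rw [← Finset.prod_pow_eq_pow_sum]
  unfold val
  rw [← Finset.prod_mul_distrib, Int.cast_prod]
  refine Finset.prod_congr rfl fun f hf => ?_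
  have hd : 1 ≤ f.natDegree := by
    rw [Multiset.mem_toFinset, hM] at hf
    exact (UniqueFactorizationMonoid.irreducible_of_normalized_factor f hf).natDegree_pos
  push_cast
  rw [← mul_assoc, ← pow_add, ← pow_mul]
  congr 1
  · rw [show M.count f * f.natDegree + M.count f = (f.natDegree - 1) * M.count f + 2 * M.count f by
      obtain ⟨d, hd⟩ : ∃ d, f.natDegree = d + 1 := ⟨f.natDegree - 1, by omega⟩
      rw [hd, Nat.add_sub_cancel]; ring, pow_add, pow_mul (-1 : ℂ) 2]
    simp
  · rw [Nat.choose_two_right, mul_assoc f.natDegree, Nat.mul_div_assoc _ (Nat.even_mul_pred_self _).two_dvd]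

end Cfsg.Agent.Small.SteinbergGL
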